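import Groth.Agent.CSAStruct.Splitting
import Mathlib.RingTheory.LittleWedderburn
import Mathlib.FieldTheory.Finite.Extension
import Mathlib.FieldTheory.PrimitiveElement

/-!
# Maximal etale subalgebras generated by one element in a central simple algebra
-/

universe u v w

open Polynomial

namespace Groth.Agent.H9CSA

variable (k : Type u) [Field k]

theorem isSeparable_pi (L : Type w) [Field L] [Algebra k L] [Algebra.IsSeparable k L] (n : ℕ) :
    Algebra.IsSeparable k (Fin n → L) := by
  classical
  refine ⟨fun y => ?_⟩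
  let T : Finset k[X] := Finset.univ.image fun i => minpoly k (y i)
  have hT : ∀ p ∈ T, ∃ i, p = minpoly k (y i) := fun p hp => by
    obtain ⟨i, -, rfl⟩ := Finset.mem_image.1 hp
    exact ⟨i, rfl⟩
  have hint : ∀ i, IsIntegral k (y i) := fun i => (Algebra.IsSeparable.isSeparable k (y i)).isIntegral
  have hsep : (∏ p ∈ T, p).Separable := by
    refine separable_prod' (fun p hp q hq hpq => ?_) (fun p hp => ?_)
    · obtain ⟨i, rfl⟩ := hT p hp
      obtain ⟨j, rfl⟩ := hT q hq
      refine ((minpoly.irreducible (hint i)).coprime_iff_not_dvd).2 fun hdvd => hpq ?_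
      exact eq_of_monic_of_associated (minpoly.monic (hint i)) (minpoly.monic (hint j))
        ((minpoly.irreducible (hint i)).associated_of_dvd (minpoly.irreducible (hint j)) hdvd)
    · obtain ⟨i, rfl⟩ := hT p hp
      exact Algebra.IsSeparable.isSeparable k (y i)
  refine hsep.of_dvd (minpoly.dvd k y (funext fun i => ?_))
  change (Pi.evalAlgHom k (fun _ : Fin n => L) i) (aeval y (∏ p ∈ T, p)) = 0
  rw [← Polynomial.aeval_algHom_apply, map_prod]
  exact Finset.prod_eq_zero (Finset.mem_image_of_mem _ (Finset.mem_univ i)) (minpoly.aeval k (y i))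

/-- `n` elements of an infinite field with differences avoiding the roots of a nonzero polynomial, except `0`. -/
theorem exists_shifts {L : Type w} [Field L] [Algebra k L] [Infinite k] (g : k[X]) (hg : g ≠ 0) (θ : L) (n : ℕ) :
    ∃ c : Fin n → k, ∀ i j, i ≠ j → aeval (θ + algebraMap k L (c i - c j)) g ≠ 0 := by
  classical
  have hS : {a : k | aeval (θ + algebraMap k L a) g = 0}.Finite := by
    refine Set.Finite.of_finite_image (f := fun a => θ + algebraMap k L a) ((g.rootSet_finite L).subset ?_) ?_
    · rintro _ ⟨a, ha, rfl⟩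
      exact (mem_rootSet_of_ne hg).2 ha
    · exact fun a _ b _ h => (algebraMap k L).injective (add_left_cancel h)
  induction n with
  | zero => exact ⟨Fin.elim0, fun i => i.elim0⟩
  | succ n ih =>
    obtain ⟨c, hc⟩ := ih
    obtain ⟨a, ha⟩ := (Set.finite_iUnion fun j : Fin n =>
      (hS.image fun s => c j + s).union (hS.image fun s => c j - s)).infinite_compl.nonempty
    simp only [Set.mem_compl_iff, Set.mem_iUnion, Set.mem_union, Set.mem_image, not_exists, not_or, not_and] at ha
    refine ⟨Fin.snoc c a, fun i j hij => ?_⟩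
    induction i using Fin.lastCases with
    | last =>
      induction j using Fin.lastCases with
      | last => exact absurd rfl hij
      | cast j =>
        rw [Fin.snoc_last, Fin.snoc_castSucc]
        exact fun h => (ha j).1 _ h (add_sub_cancel _ _)
    | cast i =>
      induction j using Fin.lastCases with
      | last =>
        rw [Fin.snoc_last, Fin.snoc_castSucc]
        exact fun h => (ha i).2 _ h (sub_sub_cancel _ _)
      | cast j =>
        rw [Fin.snoc_castSucc, Fin.snoc_castSucc]
        exact hc i j fun h => hij (h ▸ rfl)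

theorem adjoin_eq_top (L : Type w) [Field L] [Algebra k L] (θ : L) (hθ : Algebra.adjoin k {θ} = ⊤)
    (n : ℕ) (c : Fin n → k)
    (hc : ∀ i j, i ≠ j → aeval (θ + algebraMap k L (c i - c j)) (minpoly k θ) ≠ 0) :
    Algebra.adjoin k {fun i => θ + algebraMap k L (c i)} = ⊤ := by
  classical
  rw [eq_top_iff]
  rintro f -
  have hf : ∑ i, Pi.single i (f i) = f := Finset.univ_sum_single f
  rw [← hf]
  refine Subalgebra.sum_mem _ fun i _ => ?_
  let x : Fin n → L := fun i => θ + algebraMap k L (c i)
  let Q : k[X] := ∏ j ∈ Finset.univ.erase i, (minpoly k θ).comp (X - C (c j))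
  have hQ : ∀ l, aeval (x l) Q = ∏ j ∈ Finset.univ.erase i, aeval (θ + algebraMap k L (c l - c j)) (minpoly k θ) := by
    intro l
    rw [map_prod]
    refine Finset.prod_congr rfl fun j _ => ?_
    rw [aeval_comp, map_sub, aeval_X, aeval_C, map_sub, add_sub_assoc]
  have hQi : aeval (x i) Q ≠ 0 := by
    rw [hQ]
    exact Finset.prod_ne_zero_iff.2 fun j hj => hc i j (Finset.ne_of_mem_erase hj).symm
  have hmem : f i * (aeval (x i) Q)⁻¹ ∈ Algebra.adjoin k {x i} := by
    have htop : Algebra.adjoin k {x i} = ⊤ := by
      rw [← top_le_iff, ← hθ]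
      refine Algebra.adjoin_le (Set.singleton_subset_iff.2 ?_)
      have h := Subalgebra.sub_mem _ (Algebra.self_mem_adjoin_singleton k (x i))
        (Subalgebra.algebraMap_mem (Algebra.adjoin k {x i}) (c i))
      rwa [show x i - algebraMap k L (c i) = θ from add_sub_cancel_right _ _] at h
    rw [htop]; trivial
  obtain ⟨q, hq⟩ := (Algebra.adjoin_singleton_eq_range_aeval k (x i) ▸ hmem : f i * (aeval (x i) Q)⁻¹ ∈ (aeval (x i) : k[X] →ₐ[k] L).range)
  rw [Algebra.adjoin_singleton_eq_range_aeval]
  refine ⟨q * Q, funext fun l => ?_⟩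
  change (Pi.evalAlgHom k (fun _ : Fin n => L) l) (aeval x (q * Q)) = _
  rw [← Polynomial.aeval_algHom_apply, map_mul]
  change aeval (x l) q * aeval (x l) Q = _
  by_cases hli : l = i
  · subst hli
    rw [show aeval (x l) q = f l * (aeval (x l) Q)⁻¹ from hq, Pi.single_eq_same, mul_assoc, inv_mul_cancel₀ hQi, mul_one]
  · rw [Pi.single_eq_of_ne hli, hQ, Finset.prod_eq_zero (Finset.mem_erase.2 ⟨hli, Finset.mem_univ l⟩)
      (by rw [sub_self, map_zero, add_zero, minpoly.aeval]), mul_zero]

/-- From an embedding of a power of a separable field, a separable subalgebra with one generator. -/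
theorem exists_generator_of_embedding {A : Type v} [Ring A] [Algebra k A] (L : Type w) [Field L] [Algebra k L]
    [FiniteDimensional k L] [Algebra.IsSeparable k L] (n : ℕ) (hsmall : n ≤ 1 ∨ Infinite k)
    (φ : (Fin n → L) →ₐ[k] A) (hφ : Function.Injective φ) :
    ∃ x : A, Algebra.IsSeparable k (Algebra.adjoin k ({x} : Set A)) ∧
      Module.finrank k (Algebra.adjoin k ({x} : Set A)) = n * Module.finrank k L := by
  obtain ⟨θ, hθ⟩ := Field.exists_primitive_element k L
  have hθ' : Algebra.adjoin k {θ} = ⊤ := by
    rw [← IntermediateField.adjoin_simple_toSubalgebra_of_isAlgebraic (Algebra.IsAlgebraic.isAlgebraic θ), hθ,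
      IntermediateField.top_toSubalgebra]
  obtain ⟨c, hc⟩ : ∃ c : Fin n → k, ∀ i j, i ≠ j → aeval (θ + algebraMap k L (c i - c j)) (minpoly k θ) ≠ 0 := by
    rcases hsmall with h | h
    · exact ⟨fun _ => 0, fun i j hij => absurd (Fin.ext (by omega)) hij⟩
    · exact exists_shifts k _ (minpoly.ne_zero (Algebra.IsIntegral.isIntegral θ)) θ n
  let x : Fin n → L := fun i => θ + algebraMap k L (c i)
  have hx : Algebra.adjoin k {x} = ⊤ := adjoin_eq_top k L θ hθ' n c hc
  have hrange : Algebra.adjoin k ({φ x} : Set A) = φ.range := by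
    rw [← Set.image_singleton, ← AlgHom.map_adjoin, hx, Algebra.map_top]
  haveI := isSeparable_pi k L n
  refine ⟨φ x, ?_, ?_⟩
  · rw [hrange]
    exact AlgEquiv.Algebra.isSeparable (AlgEquiv.ofInjective φ hφ)
  · rw [hrange, ← (AlgEquiv.ofInjective φ hφ).toLinearEquiv.finrank_eq, Module.finrank_pi_fintype, Finset.sum_const,
      Finset.card_univ, Fintype.card_fin, smul_eq_mul]

/-- A central simple algebra of degree `r` contains `k[x]` separable of dimension `r`. -/
theorem exists_adjoin_singleton_etale (A : Type v) [Ring A] [Algebra k A] [Algebra.IsCentral k A] [IsSimpleRing A]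
    [FiniteDimensional k A] (r : ℕ) (hA : Module.finrank k A = r ^ 2) :
    ∃ x : A, Algebra.IsSeparable k (Algebra.adjoin k ({x} : Set A)) ∧
      Module.finrank k (Algebra.adjoin k ({x} : Set A)) = r := by
  classical
  obtain ⟨n, hn, D, _, _, _, _, ⟨e⟩⟩ := CSAStruct.exists_division k A
  obtain ⟨L, hcomm, hsep, hL⟩ := CSAStruct.exists_separable_selfCentralizing k D
  haveI : IsSimpleRing L := CSAStruct.isSimpleRing_of_isDomain k L
  have hdim := CSAStruct.finrank_eq_mul_finrank_centralizer k L
  rw [hL] at hdim
  have hr : r = n * Module.finrank k L := by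
    apply Nat.pow_left_injective two_ne_zero
    change r ^ 2 = _ ^ 2
    rw [← hA, e.toLinearEquiv.finrank_eq, Module.finrank_matrix, hdim, Fintype.card_fin]
    ring
  rcases finite_or_infinite k with hk | hk
  · haveI : Finite D := Module.finite_of_finite k
    letI : Field D := littleWedderburn D
    have hbot : ∀ d : D, d ∈ (⊥ : Subalgebra k D) := fun d =>
      Algebra.IsCentral.out (Subalgebra.mem_center_iff.2 fun b => mul_comm b d)
    have hD1 : Module.finrank k D = 1 :=
      Subalgebra.bot_eq_top_iff_finrank_eq_one.1 (eq_top_iff.2 fun d _ => hbot d)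
    have hL1 : Module.finrank k L = 1 := Nat.eq_one_of_mul_eq_one_right (hdim.symm.trans hD1)
    obtain ⟨p, _⟩ := CharP.exists k
    haveI : Fact p.Prime := ⟨(CharP.char_is_prime_or_zero k p).resolve_right (CharP.char_ne_zero_of_finite k p)⟩
    haveI : NeZero n := ⟨hn⟩
    let K := FiniteField.Extension k p n
    haveI : Algebra.IsSeparable k K := inferInstance
    have hK : Module.finrank k K = n := FiniteField.finrank_extension k p n
    let b : Module.Basis (Fin n) k K := Module.finBasisOfFinrankEq k K hK
    let φ : (Fin 1 → K) →ₐ[k] A := (e.symm.toAlgHom.comp (Algebra.ofId k D).mapMatrix).comp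
      ((Algebra.leftMulMatrix b).comp (Pi.evalAlgHom k (fun _ : Fin 1 => K) 0))
    have hφ : Function.Injective φ := by
      intro a a' h
      have h' := (Matrix.map_injective (algebraMap k D).injective) (e.symm.injective h)
      exact funext fun i => Subsingleton.elim 0 i ▸ Algebra.leftMulMatrix_injective b h'
    obtain ⟨x, hx1, hx2⟩ := exists_generator_of_embedding k K 1 (Or.inl le_rfl) φ hφ
    exact ⟨x, hx1, by rw [hx2, hK, hr, hL1, one_mul, mul_one]⟩
  · letI : CommRing L := { (inferInstance : Ring L) with mul_comm := fun a b => Subtype.ext (hcomm a a.2 b b.2) }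
    letI : Field L := fieldOfFiniteDimensional k L
    let φ : (Fin n → L) →ₐ[k] A := e.symm.toAlgHom.comp ((Matrix.diagonalAlgHom k).comp (L.val.compLeft (Fin n)))
    have hφ : Function.Injective φ := fun a a' h =>
      funext fun i => Subtype.ext (congrFun (Matrix.diagonal_injective (e.symm.injective h)) i)
    obtain ⟨x, hx1, hx2⟩ := exists_generator_of_embedding k L n (Or.inr hk) φ hφ
    exact ⟨x, hx1, hx2.trans hr.symm⟩

end Groth.Agent.H9CSA
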